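import Groth.Agent.Sga7.H753.NerGeo
import Groth.Agent.Sga3B.Parab.TorRank156
import Groth.Prelude.Def_Frob

/-!
# Semilinear endomorphisms over a power of Frobenius on the special fibre of a Néron model

* `Fam S' Q`: a natural family of endomorphisms of the schemes over `S'` which is `c ↦ c ^ Q` on global sections
  (the `m`-fold absolute Frobenius, `Q = p ^ m`; the identity, `Q = 1`): `exists_fam`.
* `psiQ`: `q : S' ⟶ Spec R` with `ν.j ≫ q ≫ Spec s = q`: the semilinear endomorphism `F` of `N` induces the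
  endomorphism `F_abs ≫ fst ≫ F` of the group scheme `N ×_R S'` (`isMonHom_psiQ`).
* `E_psiQ`, `Lift.galActQ`, `hq_of_galois`: on points, `psiQ` is the action of an automorphism `σ` of `Ω` with
  `σ y ≡ y ^ Q` on the residue field.
* `exists_restrict`: restriction of an endomorphism to an open and closed connected subgroup.
* `kill`: the matrix of `psiQ` on a subtorus is divisible by `Q`.
-/

set_option autoImplicit false
set_option linter.unusedSectionVars false

universe u

open CategoryTheory CategoryTheory.Limits MonoidalCategory CartesianMonoidalCategory AlgebraicGeometry MonObj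

namespace K539.Frob

open Groth.Agent.Sga7.H753.NerTwist Groth.Agent.Sga7.H753.BaseExt Groth.Agent.Sga3B.BcPts
open Groth.Agent.Sga7.H753.NerHom Groth.Agent.Sga7.H753.NerPsi Groth.Agent.Sga7.H753.NerPts
open Groth.Agent.Sga7.H753.NerDict Groth.Agent.Sga7.H753.NerGeo
open Groth.Agent.Sga67 Groth.Agent.Sga7.H755

section fam

/-- A natural family of endomorphisms of the schemes over `S'`, given by `c ↦ c ^ Q` on global sections. -/
structure Fam (S' : Scheme.{u}) (Q : ℕ) where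
  /-- the endomorphism of the base -/
  j : S' ⟶ S'
  /-- the endomorphism of a scheme over `S'` -/
  app : ∀ T : Over S', T.left ⟶ T.left
  over : ∀ T : Over S', app T ≫ T.hom = T.hom ≫ j
  nat : ∀ {T T' : Over S'} (f : T ⟶ T'), app T ≫ f.left = f.left ≫ app T'
  pow : ∀ (T : Over S') (c : Γ(T.left, ⊤)), (app T).appTop.hom c = c ^ Q

variable {S' : Scheme.{u}}

lemma Fam.app_unit {Q : ℕ} (ν : Fam S' Q) : ν.app (𝟙_ (Over S')) = ν.j := by
  have h := ν.over (𝟙_ (Over S'))
  have h1 : (𝟙_ (Over S')).hom = 𝟙 S' := rfl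
  rw [h1] at h
  exact (Category.comp_id _).symm.trans (h.trans (Category.id_comp _))

variable (S') in
/-- the identity -/
noncomputable def Fam.one : Fam S' 1 where
  j := 𝟙 _
  app _ := 𝟙 _
  over T := by rw [Category.id_comp, Category.comp_id]
  nat f := by rw [Category.id_comp, Category.comp_id]
  pow T c := by
    rw [pow_one]
    simp

/-- the composite -/
noncomputable def Fam.comp {Q Q' : ℕ} (ν : Fam S' Q) (ν' : Fam S' Q') : Fam S' (Q * Q') where
  j := ν.j ≫ ν'.j
  app T := ν.app T ≫ ν'.app T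
  over T := by rw [Category.assoc, ν'.over, ← Category.assoc, ν.over, Category.assoc]
  nat f := by rw [Category.assoc, ν'.nat, ← Category.assoc, ν.nat, Category.assoc]
  pow T c := by
    rw [Scheme.Hom.comp_appTop]
    show (ν.app T).appTop.hom ((ν'.app T).appTop.hom c) = _
    rw [ν'.pow, ν.pow, ← pow_mul, mul_comm Q' Q]

variable (S') in
/-- the absolute Frobenius -/
noncomputable def Fam.frob (p : ℕ) [Fact p.Prime] [FrobSch.IsCharP S' p] : Fam S' p where
  j := FrobSch.frob S' p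
  app T :=
    haveI : FrobSch.IsCharP T.left p := FrobSch.IsCharP.of_hom T.hom p
    FrobSch.frob T.left p
  over T := by
    haveI : FrobSch.IsCharP T.left p := FrobSch.IsCharP.of_hom T.hom p
    exact FrobSch.frob_comp p T.hom
  nat {T T'} f := by
    haveI : FrobSch.IsCharP T.left p := FrobSch.IsCharP.of_hom T.hom p
    haveI : FrobSch.IsCharP T'.left p := FrobSch.IsCharP.of_hom T'.hom p
    exact FrobSch.frob_comp p f.left
  pow T c := by
    haveI : FrobSch.IsCharP T.left p := FrobSch.IsCharP.of_hom T.hom p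
    exact FrobSch.frob_appTop T.left p c

/-- the iterates -/
noncomputable def Fam.iter {Q : ℕ} (ν : Fam S' Q) : (m : ℕ) → Fam S' (Q ^ m)
  | 0 => Fam.one S'
  | m + 1 => (pow_succ Q m) ▸ (ν.iter m).comp ν

/-- an endomorphism of `Spec κ` inducing `c ↦ c ^ Q` on global sections -/
lemma eq_specMap {κ : Type u} [CommRing κ] {Q : ℕ} (φ : κ →+* κ) (hφ : ∀ y, φ y = y ^ Q)
    (g : Spec (CommRingCat.of κ) ⟶ Spec (CommRingCat.of κ))
    (hg : ∀ c : Γ(Spec (CommRingCat.of κ), ⊤), g.appTop.hom c = c ^ Q) :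
    g = Spec.map (CommRingCat.ofHom φ) := by
  obtain ⟨a, rfl⟩ := Spec.map_surjective g
  congr 1
  ext y
  have h := hg ((Scheme.ΓSpecIso (CommRingCat.of κ)).inv.hom y)
  have h1 : (Spec.map a).appTop.hom ((Scheme.ΓSpecIso (CommRingCat.of κ)).inv.hom y) =
      (Scheme.ΓSpecIso (CommRingCat.of κ)).inv.hom (a.hom y) := by
    have h2 := Scheme.ΓSpecIso_inv_naturality a
    exact congrArg (fun z => z.hom y) h2.symm
  rw [h1, ← map_pow] at h
  have h3 := (Scheme.ΓSpecIso (CommRingCat.of κ)).symm.commRingCatIsoToRingEquiv.injective h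
  rw [h3]
  exact (hφ y).symm

/-- **Existence**: the `m`-fold absolute Frobenius (the identity for exponential characteristic `1`). -/
theorem exists_fam (κ : Type u) [Field κ] (p : ℕ) [ExpChar κ p] (m : ℕ) :
    ∃ ν : Fam (Spec (CommRingCat.of κ)) (p ^ m), ∀ φ : κ →+* κ, (∀ y, φ y = y ^ (p ^ m)) →
      ν.j = Spec.map (CommRingCat.ofHom φ) := by
  have key : Nonempty (Fam (Spec (CommRingCat.of κ)) (p ^ m)) := by
    rcases ‹ExpChar κ p› with _ | ⟨hp⟩
    · rw [one_pow]
      exact ⟨Fam.one _⟩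
    · haveI : Fact p.Prime := ⟨hp⟩
      exact ⟨(Fam.frob (Spec (CommRingCat.of κ)) p).iter m⟩
  obtain ⟨ν⟩ := key
  refine ⟨ν, fun φ hφ => eq_specMap φ hφ ν.j fun c => ?_⟩
  have h := ν.pow (𝟙_ (Over (Spec (CommRingCat.of κ)))) c
  rw [ν.app_unit] at h
  exact h

end fam

section psiQ

variable {k K R : Type u} [Field k] [Field K] [Algebra k K] [CommRing R] [Algebra R K]
  {N : Over (Spec (CommRingCat.of R))} {A : Over (Spec (CommRingCat.of k))}
  {S' : Scheme.{u}} {Q : ℕ} (ν : Fam S' Q)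
  {s : R ≃+* R} {F : N.left ⟶ N.left} (hF : F ≫ N.hom = N.hom ≫ sp s)
  (q : S' ⟶ Spec (CommRingCat.of R)) (hq : ν.j ≫ q ≫ sp s = q)

/-- The endomorphism `F_abs ≫ fst ≫ F` of the base change of `N`. -/
noncomputable def psiQ : Red.bc q N ⟶ Red.bc q N :=
  Over.homMk (pullback.lift (ν.app (Red.bc q N) ≫ pullback.fst N.hom q ≫ F) (pullback.snd N.hom q) (by
    have h1 : ν.app (Red.bc q N) ≫ pullback.snd N.hom q = pullback.snd N.hom q ≫ ν.j :=
      ν.over (Red.bc q N)
    rw [Category.assoc, Category.assoc, hF, ← Category.assoc (pullback.fst N.hom q),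
      pullback.condition, ← Category.assoc, ← Category.assoc, h1, Category.assoc, Category.assoc,
      hq]))
    (pullback.lift_snd _ _ _)

lemma psiQ_fst : (psiQ ν hF q hq).left ≫ pullback.fst N.hom q =
    ν.app (Red.bc q N) ≫ pullback.fst N.hom q ≫ F :=
  pullback.lift_fst _ _ _

lemma bcEquiv_symm_left {T : Over S'} (y : T ⟶ Red.bc q N) :
    ((bcEquiv q T N).symm y).left = y.left ≫ pullback.fst N.hom q := by
  rw [bcEquiv, Adjunction.homEquiv_counit, Over.mapPullbackAdj_counit_app, Over.comp_left]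
  rfl

/-- `ν` as a morphism over `S'`, the source being twisted by `j`. -/
noncomputable def shift (T : Over S') : (Over.map ν.j).obj T ⟶ T :=
  Over.homMk (ν.app T) (ν.over T)

/-- the comparison of the test objects. -/
noncomputable def idn (T : Over S') : (Over.map q).obj T ⟶
    Over.mk (((Over.map q).obj ((Over.map ν.j).obj T)).hom ≫ sp s) :=
  Over.homMk (𝟙 _) (by
    show 𝟙 _ ≫ (((T.hom ≫ ν.j) ≫ q) ≫ sp s) = T.hom ≫ q
    rw [Category.id_comp, Category.assoc, Category.assoc, hq])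

/-- `psiQ` on points. -/
lemma comp_psiQ {T : Over S'} (x : T ⟶ Red.bc q N) :
    (bcEquiv q T N).symm (x ≫ psiQ ν hF q hq) =
      idn ν q hq T ≫ tw hF ((bcEquiv q ((Over.map ν.j).obj T) N).symm (shift ν T ≫ x)) := by
  ext1
  rw [bcEquiv_symm_left, Over.comp_left, Category.assoc, psiQ_fst, ← Category.assoc, ← ν.nat]
  show _ = 𝟙 _ ≫ (((bcEquiv q ((Over.map ν.j).obj T) N).symm (shift ν T ≫ x)).left ≫ F)
  rw [Category.id_comp, bcEquiv_symm_left]
  show (ν.app T ≫ x.left) ≫ pullback.fst N.hom q ≫ F = ((ν.app T ≫ x.left) ≫ _) ≫ F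
  simp only [Category.assoc]

/-- `psiQ` on points, underlying morphisms. -/
lemma comp_psiQ_left {T : Over S'} (x : T ⟶ Red.bc q N) :
    ((bcEquiv q T N).symm (x ≫ psiQ ν hF q hq)).left =
      ν.app T ≫ ((bcEquiv q T N).symm x).left ≫ F := by
  rw [bcEquiv_symm_left, bcEquiv_symm_left, Over.comp_left, Category.assoc, psiQ_fst,
    ← Category.assoc, ← ν.nat]
  simp only [Category.assoc]

/-- `psiQ` is compatible with morphisms compatible with the semilinear endomorphisms. -/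
lemma psiQ_naturality {N' : Over (Spec (CommRingCat.of R))} {F' : N'.left ⟶ N'.left}
    (hF' : F' ≫ N'.hom = N'.hom ≫ sp s) (f : N' ⟶ N) (hf : F' ≫ f.left = f.left ≫ F) :
    psiQ ν hF' q hq ≫ (Over.pullback q).map f = (Over.pullback q).map f ≫ psiQ ν hF q hq := by
  have h1 : ((Over.pullback q).map f).left ≫ pullback.fst N.hom q = pullback.fst N'.hom q ≫ f.left :=
    pullback.lift_fst _ _ _
  ext1
  apply pullback.hom_ext
  · rw [Over.comp_left, Over.comp_left, Category.assoc, Category.assoc, psiQ_fst, h1,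
      ← Category.assoc, psiQ_fst, ← Category.assoc ((Over.pullback q).map f).left]
    have h2 := ν.nat ((Over.pullback q).map f)
    rw [← h2]
    simp only [Category.assoc]
    rw [hf, ← Category.assoc ((Over.pullback q).map f).left, h1, Category.assoc]
  · exact (Over.w (psiQ ν hF' q hq ≫ (Over.pullback q).map f)).trans
      (Over.w ((Over.pullback q).map f ≫ psiQ ν hF q hq)).symm

variable [GrpObj N] [GrpObj A]

/-- `psiQ` is multiplicative on points. -/
theorem mul_comp_psiQ (htw : ∀ (T : Over (Spec (CommRingCat.of R))) (x y : T ⟶ N),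
      tw hF (x * y) = tw hF x * tw hF y) {T : Over S'} (x y : T ⟶ Red.bc q N) :
    (x * y) ≫ psiQ ν hF q hq = (x ≫ psiQ ν hF q hq) * (y ≫ psiQ ν hF q hq) := by
  have h1 : ∀ (T : Over S') (x y : T ⟶ Red.bc q N), (bcEquiv q T N).symm (x * y) =
      (bcEquiv q T N).symm x * (bcEquiv q T N).symm y :=
    fun T x y => (bcMulEquiv q T N).symm.map_mul x y
  apply (bcEquiv q T N).symm.injective
  rw [h1, comp_psiQ, comp_psiQ, comp_psiQ, MonObj.comp_mul, h1, htw, MonObj.comp_mul]

lemma isMonHom_of_mul_comp {S : Scheme.{u}} {G H : Over S} [GrpObj G] [GrpObj H] (u : G ⟶ H)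
    (hmul : ∀ (T : Over S) (x y : T ⟶ G), (x * y) ≫ u = (x ≫ u) * (y ≫ u)) : IsMonHom u := by
  have hone : (1 : 𝟙_ (Over S) ⟶ G) ≫ u = 1 := by
    have h1 := hmul (𝟙_ (Over S)) 1 1
    rw [_root_.mul_one] at h1
    exact (left_eq_mul.1 h1)
  refine ⟨?_, ?_⟩
  · have h1 : (1 : 𝟙_ (Over S) ⟶ G) = η[G] := (one_eq_one _).symm
    rw [← h1]
    exact hone
  · have h1 := hmul (G ⊗ G) (fst _ _) (snd _ _)
    rw [← mul_eq_mul] at h1
    rw [h1, Hom.mul_def]
    congr 1

/-- `psiQ` is a homomorphism of group schemes. -/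
theorem isMonHom_psiQ' (htw : ∀ (T : Over (Spec (CommRingCat.of R))) (x y : T ⟶ N),
      tw hF (x * y) = tw hF x * tw hF y) : IsMonHom (psiQ ν hF q hq) :=
  isMonHom_of_mul_comp _ fun _ x y => mul_comp_psiQ ν hF q hq htw x y

/-- `psiQ` is a homomorphism of group schemes, for a Néron model. -/
theorem isMonHom_psiQ (e : (SGA7.genFib R K).obj N ≅ Red.bc (fKL k K) A) [IsMonHom e.hom]
    (hN : SGA7.IsNeron R K N) (s : R ≃+* R) (t : K ≃ₐ[k] K)
    (hst : ∀ r, t (algebraMap R K r) = algebraMap R K (s r))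
    {F : N.left ⟶ N.left} (hF : IsTw e s t F) {S' : Scheme.{u}} {Q : ℕ} (ν : Fam S' Q)
    (q : S' ⟶ Spec (CommRingCat.of R)) (hq : ν.j ≫ q ≫ sp s = q) :
    IsMonHom (psiQ ν hF.hom q hq) :=
  isMonHom_psiQ' ν hF.hom q hq fun T x y => tw_mul e hN s t hst hF T x y

end psiQ

section unit

variable {R κ : Type u} [CommRing R] [CommRing κ] [Algebra R κ]

/-- `psiQ` on the points with values in `κ`. -/
lemma E_psiQ {Q : ℕ} (ν : Fam (Spec (CommRingCat.of κ)) Q) {φ : κ →+* κ}
    (hφ : ν.j = Spec.map (CommRingCat.ofHom φ))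
    {N : Over (Spec (CommRingCat.of R))} [GrpObj N] {s : R ≃+* R} {F : N.left ⟶ N.left}
    (hF : F ≫ N.hom = N.hom ≫ sp s) (hq : ν.j ≫ qm R κ ≫ sp s = qm R κ)
    (y : 𝟙_ (Over (Spec (CommRingCat.of κ))) ⟶ Red.bc (qm R κ) N) :
    (E N (y ≫ psiQ ν hF (qm R κ) hq)).left =
      Spec.map (CommRingCat.ofHom φ) ≫ (E N y).left ≫ F := by
  show (isoU R κ).hom.left ≫ ((bcEquiv (qm R κ) (𝟙_ _) N).symm (y ≫ psiQ ν hF (qm R κ) hq)).left =
    _ ≫ ((isoU R κ).hom.left ≫ ((bcEquiv (qm R κ) (𝟙_ _) N).symm y).left) ≫ F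
  rw [comp_psiQ_left, ν.app_unit, ← hφ]
  have h1 : (isoU R κ).hom.left = 𝟙 (Spec (CommRingCat.of κ)) := rfl
  rw [h1]
  simp only [Category.assoc]
  exact (Category.id_comp _).trans (congrArg (fun z => ν.j ≫ z) (Category.id_comp _).symm)

end unit

section lift

variable {k K R Ω : Type u} [Field k] [Field K] [Algebra k K] [CommRing R] [Algebra R K]
  [Field Ω] [Algebra k Ω] [Algebra K Ω] [IsScalarTower k K Ω] [Algebra R Ω] [IsScalarTower R K Ω]
  {W : ValuationSubring Ω} [Algebra R W] [IsScalarTower R W Ω]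
  {N : Over (Spec (CommRingCat.of R))} {A : Over (Spec (CommRingCat.of k))}
  [GrpObj N] [GrpObj A] {e : (SGA7.genFib R K).obj N ≅ Red.bc (fKL k K) A} [IsMonHom e.hom]

/-- the condition `hq` of `psiQ` for an automorphism of `Ω` which is `y ↦ y ^ Q` on the residue field. -/
theorem hq_of_galois {s : R ≃+* R} {t : K ≃ₐ[k] K}
    (hst : ∀ r, t (algebraMap R K r) = algebraMap R K (s r))
    (σ : Ω ≃ₐ[k] Ω) (hσt : ∀ x : K, σ (algebraMap K Ω (t x)) = algebraMap K Ω x) {Q : ℕ}
    (hσ : ∀ w : Ω, w ∈ W → σ w ∈ W ∧ W.valuation (σ w - w ^ Q) < 1)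
    {φ : IsLocalRing.ResidueField W →+* IsLocalRing.ResidueField W} (hφ : ∀ y, φ y = y ^ Q) :
    Spec.map (CommRingCat.ofHom φ) ≫ qm R (IsLocalRing.ResidueField W) ≫ sp s =
      qm R (IsLocalRing.ResidueField W) := by
  have hRW : ∀ r : R, ((algebraMap R W r : W) : Ω) = algebraMap K Ω (algebraMap R K r) := fun r => by
    rw [← IsScalarTower.algebraMap_apply R K Ω, IsScalarTower.algebraMap_apply R W Ω]
    rfl
  rw [sp, qm, ← Spec.map_comp, ← Spec.map_comp, ← CommRingCat.ofHom_comp, ← CommRingCat.ofHom_comp]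
  congr 2
  ext r
  show φ (algebraMap R (IsLocalRing.ResidueField W) (s r)) = algebraMap R (IsLocalRing.ResidueField W) r
  rw [hφ]
  show (IsLocalRing.residue W (algebraMap R W (s r))) ^ Q = IsLocalRing.residue W (algebraMap R W r)
  rw [← map_pow]
  symm
  apply Ideal.Quotient.eq.2
  rw [ValuationSubring.valuation_lt_one_iff]
  have h1 := (hσ _ (algebraMap R W (s r)).2).2
  rw [hRW, ← hst, hσt, hst] at h1
  have h2 : ((algebraMap R W r - algebraMap R W (s r) ^ Q : W) : Ω) =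
      algebraMap K Ω (algebraMap R K r) - algebraMap K Ω (algebraMap R K (s r)) ^ Q := by
    rw [← hRW, ← hRW]
    rfl
  rw [h2]
  exact h1

/-- The Galois action and the semilinear endomorphism, for `σ y ≡ y ^ Q` on the residue field. -/
theorem Lift.galActQ {s : R ≃+* R} {t : K ≃ₐ[k] K} {F : N.left ⟶ N.left} (hF : IsTw e s t F)
    (hst : ∀ r, t (algebraMap R K r) = algebraMap R K (s r))
    (σ : Ω ≃ₐ[k] Ω) (hσt : ∀ x : K, σ (algebraMap K Ω (t x)) = algebraMap K Ω x) {Q : ℕ}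
    (hσ : ∀ w : Ω, w ∈ W → σ w ∈ W ∧ W.valuation (σ w - w ^ Q) < 1)
    {φ : IsLocalRing.ResidueField W →+* IsLocalRing.ResidueField W} (hφ : ∀ y, φ y = y ^ Q)
    {x : SGA7.Pts (K := k) Ω A} {y y' : spo R (IsLocalRing.ResidueField W) ⟶ N}
    (hy' : y'.left = Spec.map (CommRingCat.ofHom φ) ≫ y.left ≫ F) (h : Lift W e x y) :
    Lift W e (SGA7.galAct σ x) y' := by
  obtain ⟨w, rfl, rfl⟩ := h
  have hRW : ∀ r : R, ((algebraMap R W r : W) : Ω) = algebraMap K Ω (algebraMap R K r) := fun r => by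
    rw [← IsScalarTower.algebraMap_apply R K Ω, IsScalarTower.algebraMap_apply R W Ω]
    rfl
  let σW : W →+* W :=
    { toFun := fun w => ⟨σ w.1, (hσ w.1 w.2).1⟩
      map_one' := Subtype.ext (map_one σ)
      map_mul' := fun a b => Subtype.ext (map_mul σ a.1 b.1)
      map_zero' := Subtype.ext (map_zero σ)
      map_add' := fun a b => Subtype.ext (map_add σ a.1 b.1) }
  have hσW : σW.comp ((algebraMap R W).comp (s : R →+* R)) = algebraMap R W := by
    ext r
    show σ ((algebraMap R W (s r) : W) : Ω) = ((algebraMap R W r : W) : Ω)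
    rw [hRW, hRW, ← hst, hσt]
  have hπ : (IsLocalRing.residue W).comp σW = φ.comp (IsLocalRing.residue W) := by
    ext w
    show IsLocalRing.residue W (σW w) = φ (IsLocalRing.residue W w)
    rw [hφ, ← map_pow]
    apply Ideal.Quotient.eq.2
    rw [ValuationSubring.valuation_lt_one_iff]
    exact (hσ w.1 w.2).2
  let w' : spo R W ⟶ N := Over.homMk (Spec.map (CommRingCat.ofHom σW) ≫ w.left ≫ F) (by
    rw [Category.assoc, Category.assoc, hF.hom, ← Category.assoc w.left, Over.w w]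
    show Spec.map (CommRingCat.ofHom σW) ≫ Spec.map (CommRingCat.ofHom (algebraMap R W)) ≫
      Spec.map (CommRingCat.ofHom (s : R →+* R)) = Spec.map (CommRingCat.ofHom (algebraMap R W))
    rw [← Spec.map_comp, ← Spec.map_comp, ← CommRingCat.ofHom_comp, ← CommRingCat.ofHom_comp, hσW])
  refine ⟨w', ?_, ?_⟩
  · apply beta_galAct e hF σ hσt
    show Spec.map (CommRingCat.ofHom (algebraMap W Ω)) ≫ Spec.map (CommRingCat.ofHom σW) ≫
      w.left ≫ F = Spec.map (CommRingCat.ofHom (σ : Ω →+* Ω)) ≫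
        (Spec.map (CommRingCat.ofHom (algebraMap W Ω)) ≫ w.left) ≫ F
    have h1 : Spec.map (CommRingCat.ofHom (algebraMap W Ω)) ≫ Spec.map (CommRingCat.ofHom σW) =
        Spec.map (CommRingCat.ofHom (σ : Ω →+* Ω)) ≫ Spec.map (CommRingCat.ofHom (algebraMap W Ω)) := by
      rw [← Spec.map_comp, ← Spec.map_comp, ← CommRingCat.ofHom_comp, ← CommRingCat.ofHom_comp]
      rfl
    rw [← Category.assoc, h1, Category.assoc, Category.assoc]
  · ext1
    rw [hy']
    show Spec.map (CommRingCat.ofHom (IsLocalRing.residue W)) ≫ Spec.map (CommRingCat.ofHom σW) ≫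
      w.left ≫ F = Spec.map (CommRingCat.ofHom φ) ≫
        (Spec.map (CommRingCat.ofHom (IsLocalRing.residue W)) ≫ w.left) ≫ F
    rw [← Category.assoc, ← Spec.map_comp, ← CommRingCat.ofHom_comp, hπ, CommRingCat.ofHom_comp,
      Spec.map_comp]
    simp only [Category.assoc]

/-- The Galois action on the points which lift is given by `psiQ`. -/
theorem Lift.psiQ {s : R ≃+* R} {t : K ≃ₐ[k] K} {F : N.left ⟶ N.left} (hF : IsTw e s t F)
    (hst : ∀ r, t (algebraMap R K r) = algebraMap R K (s r))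
    (σ : Ω ≃ₐ[k] Ω) (hσt : ∀ x : K, σ (algebraMap K Ω (t x)) = algebraMap K Ω x) {Q : ℕ}
    (hσ : ∀ w : Ω, w ∈ W → σ w ∈ W ∧ W.valuation (σ w - w ^ Q) < 1)
    {φ : IsLocalRing.ResidueField W →+* IsLocalRing.ResidueField W} (hφ : ∀ y, φ y = y ^ Q)
    (ν : Fam (Spec (CommRingCat.of (IsLocalRing.ResidueField W))) Q)
    (hν : ν.j = Spec.map (CommRingCat.ofHom φ))
    (hq : ν.j ≫ qm R (IsLocalRing.ResidueField W) ≫ sp s = qm R (IsLocalRing.ResidueField W))
    {x : SGA7.Pts (K := k) Ω A}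
    {y : 𝟙_ (Over (Spec (CommRingCat.of (IsLocalRing.ResidueField W)))) ⟶
      Red.bc (qm R (IsLocalRing.ResidueField W)) N} (h : Lift W e x (E N y)) :
    Lift W e (SGA7.galAct σ x) (E N (y ≫ psiQ ν hF.hom _ hq)) :=
  Lift.galActQ hF hst σ hσt hσ hφ (E_psiQ ν hν hF.hom hq y) h

end lift

section restrict

/-- An endomorphism preserving an open subgroup restricts to it. -/
theorem exists_restrict' {S : Scheme.{u}} {G G0 : Over S} [GrpObj G] [GrpObj G0] (i0 : G0 ⟶ G)
    [IsMonHom i0] [IsOpenImmersion i0.left] (v : G ⟶ G) [IsMonHom v]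
    (h : Set.range (i0 ≫ v).left ⊆ Set.range i0.left) :
    ∃ v0 : G0 ⟶ G0, IsMonHom v0 ∧ v0 ≫ i0 = i0 ≫ v := by
  let l : G0.left ⟶ G0.left := IsOpenImmersion.lift i0.left (i0 ≫ v).left h
  have hl : l ≫ i0.left = (i0 ≫ v).left := IsOpenImmersion.lift_fac _ _ _
  let v0 : G0 ⟶ G0 := Over.homMk l (by
    rw [← Over.w i0, ← Category.assoc, hl, Over.w (i0 ≫ v), Over.w i0])
  have h0 : v0 ≫ i0 = i0 ≫ v := by
    ext1
    exact hl
  have hm : Mono i0.left := inferInstance
  have hmi : Mono i0 := by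
    have : Mono ((Over.forget S).map i0) := hm
    exact (Over.forget S).mono_of_mono_map this
  refine ⟨v0, isMonHom_of_mul_comp v0 fun T x y => ?_, h0⟩
  rw [← cancel_mono i0, Category.assoc, h0, MonObj.mul_comp (x ≫ v0), Category.assoc x v0,
    Category.assoc y v0, h0, MonObj.mul_comp x y]

/-- An endomorphism restricts to an open and closed connected subgroup (the neutral component). -/
theorem exists_restrict {κ : Type u} [Field κ] {G G0 : Over (Spec (CommRingCat.of κ))} [GrpObj G]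
    [GrpObj G0] (i0 : G0 ⟶ G) [IsMonHom i0] [IsOpenImmersion i0.left] [ConnectedSpace G0.left]
    (hcl : IsClosed (Set.range i0.left)) (v : G ⟶ G) [IsMonHom v] :
    ∃ v0 : G0 ⟶ G0, IsMonHom v0 ∧ v0 ≫ i0 = i0 ≫ v := by
  apply exists_restrict' i0 v
  have h1 : _root_.IsPreconnected (Set.range (i0 ≫ v).left) :=
    isPreconnected_range (i0 ≫ v).left.continuous
  have h2 : IsClopen (Set.range i0.left) := ⟨hcl, i0.left.isOpenEmbedding.isOpen_range⟩
  apply h1.subset_isClopen h2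
  obtain ⟨a⟩ : Nonempty (Spec (CommRingCat.of κ)) := inferInstance
  have h3 : (η[G0] ≫ i0 ≫ v) = η[G0] ≫ i0 := by
    rw [IsMonHom.one_hom i0, ← Category.assoc, IsMonHom.one_hom i0, IsMonHom.one_hom v]
  have h4 : η[G0].left ≫ (i0 ≫ v).left = η[G0].left ≫ i0.left := congrArg (fun z => z.left) h3
  have h5 := congrArg (fun z : Spec (CommRingCat.of κ) ⟶ G.left => z a) h4
  exact ⟨(i0 ≫ v).left (η[G0].left a), ⟨_, rfl⟩, η[G0].left a, h5.symm⟩

end restrict

section kill

open Groth.Agent.Sga3B.DSPts (dsChar dsEquiv dsChar_comp dsChar_DSmap dsEquiv_dsChar dsChar_dsEquiv)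

variable {R : Type u} [CommRing R]
  {N : Over (Spec (CommRingCat.of R))}
  {S' : Scheme.{u}} {Q : ℕ} (ν : Fam S' Q)
  {s : R ≃+* R} {F : N.left ⟶ N.left} (hF : F ≫ N.hom = N.hom ≫ sp s)
  (q : S' ⟶ Spec (CommRingCat.of R)) (hq : ν.j ≫ q ≫ sp s = q)

lemma ds_ext {T : Over S'} {M : Type} [AddCommGroup M] {x y : T ⟶ Red.DS S' M}
    (h : dsChar x = dsChar y) : x = y := by
  rw [← dsEquiv_dsChar x, h, dsEquiv_dsChar]

lemma dsChar_one {T : Over S'} {M : Type} [AddCommGroup M] :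
    dsChar (1 : T ⟶ Red.DS S' M) = 1 := map_one (dsEquiv T M).symm

lemma dsChar_pow {T : Over S'} {M : Type} [AddCommGroup M] (x : T ⟶ Red.DS S' M) (n : ℕ) :
    dsChar (x ^ n) = dsChar x ^ n := map_pow (dsEquiv T M).symm x n

/-- the twist by `ν` of a point of a diagonalizable group is its `Q`-th power. -/
lemma dsChar_shift {T : Over S'} {M : Type} [AddCommGroup M] (x : T ⟶ Red.DS S' M)
    (m : Multiplicative M) :
    (show Γ(T.left, ⊤) from dsChar (shift ν T ≫ x) m) = (dsChar x m) ^ Q := by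
  rw [dsChar_comp]
  exact ν.pow T (dsChar x m)

lemma shift_comp_eq_one {T : Over S'} {M : Type} [AddCommGroup M] (x : T ⟶ Red.DS S' M)
    (hx : x ^ Q = 1) : shift ν T ≫ x = 1 := by
  apply ds_ext
  ext m
  rw [dsChar_one]
  have h1 : dsChar x ^ Q = 1 := by rw [← dsChar_pow, hx, dsChar_one]
  have h2 := DFunLike.congr_fun h1 m
  exact (dsChar_shift ν x m).trans h2

variable [GrpObj N]

/-- `psiQ` kills the points of order dividing `Q` of a diagonalizable subgroup. -/
theorem comp_psiQ_eq_one (htw : ∀ (T : Over (Spec (CommRingCat.of R))) (x y : T ⟶ N),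
      tw hF (x * y) = tw hF x * tw hF y) {M : Type} [AddCommGroup M]
    (i : Red.DS S' M ⟶ Red.bc q N) [IsMonHom i] {T : Over S'} (x : T ⟶ Red.DS S' M)
    (hx : x ^ Q = 1) : (x ≫ i) ≫ psiQ ν hF q hq = 1 := by
  have h1 : ∀ (T : Over S'), (bcEquiv q T N).symm 1 = 1 := fun T => (bcMulEquiv q T N).symm.map_one
  have h2 : ∀ T : Over (Spec (CommRingCat.of R)), tw hF (1 : T ⟶ N) = 1 := by
    intro T
    have h3 := htw T 1 1
    rw [_root_.mul_one] at h3
    exact left_eq_mul.1 h3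
  apply (bcEquiv q T N).symm.injective
  rw [comp_psiQ, ← Category.assoc, shift_comp_eq_one ν x hx, MonObj.one_comp, h1, h1, h2, MonObj.comp_one]

/-- **(KILL)** The endomorphism induced by `psiQ` on a diagonalizable subgroup is a `Q`-th power. -/
theorem kill {κ : Type u} [CommRing κ] [Nontrivial κ] (ν : Fam (Spec (CommRingCat.of κ)) Q)
    (q : Spec (CommRingCat.of κ) ⟶ Spec (CommRingCat.of R)) (hq : ν.j ≫ q ≫ sp s = q)
    (htw : ∀ (T : Over (Spec (CommRingCat.of R))) (x y : T ⟶ N),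
      tw hF (x * y) = tw hF x * tw hF y) {M : Type} [AddCommGroup M]
    (i : Red.DS (Spec (CommRingCat.of κ)) M ⟶ Red.bc q N) [IsMonHom i] [Mono i] (w : M →+ M)
    (hw : i ≫ psiQ ν hF q hq = Red.DSmap _ w ≫ i) (m : M) : ∃ m' : M, w m = Q • m' := by
  let P : AddSubgroup M := (nsmulAddMonoidHom (α := M) Q).range
  let π : M →+ M ⧸ P := QuotientAddGroup.mk' P
  let x : Red.DS (Spec (CommRingCat.of κ)) (M ⧸ P) ⟶ Red.DS (Spec (CommRingCat.of κ)) M :=
    Red.DSmap _ π
  have hx : x ^ Q = 1 := by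
    apply ds_ext
    rw [dsChar_pow, dsChar_one]
    have h1 : dsChar x = (dsChar (𝟙 (Red.DS (Spec (CommRingCat.of κ)) (M ⧸ P)))).comp
        (AddMonoidHom.toMultiplicative π) := by
      rw [← dsChar_DSmap, Category.id_comp]
    rw [h1]
    ext a
    obtain ⟨m, rfl⟩ := Multiplicative.ofAdd.surjective a
    show (dsChar (𝟙 (Red.DS (Spec (CommRingCat.of κ)) (M ⧸ P))) (Multiplicative.ofAdd (π m))) ^ Q = 1
    rw [← map_pow, ← ofAdd_nsmul, ← map_nsmul]
    have h2 : π (Q • m) = 0 := (QuotientAddGroup.eq_zero_iff _).2 ⟨m, rfl⟩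
    rw [h2, ofAdd_zero, map_one]
  have h3 := comp_psiQ_eq_one ν hF q hq htw i x hx
  rw [Category.assoc, hw, ← Category.assoc] at h3
  have h4 : x ≫ Red.DSmap _ w = 1 := by
    rw [← cancel_mono i, h3, MonObj.one_comp]
  have h5 : Red.DSmap (Spec (CommRingCat.of κ)) (π.comp w) = Red.DSmap _ 0 := by
    rw [Groth.Agent.Sga3B.Parab.TorRank156.DSmap_comp]
    show x ≫ Red.DSmap _ w = _
    rw [h4]
    apply ds_ext
    rw [dsChar_one, ← Category.id_comp (Red.DSmap _ _), dsChar_DSmap]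
    ext m
    show 1 = dsChar (𝟙 (Red.DS (Spec (CommRingCat.of κ)) (M ⧸ P))) (Multiplicative.ofAdd 0)
    rw [ofAdd_zero, map_one]
  have h6 := Groth.Agent.Sga3B.Parab.TorRank156.DSmap_injective h5
  have h7 : π (w m) = 0 := DFunLike.congr_fun h6 m
  obtain ⟨m', hm'⟩ := (QuotientAddGroup.eq_zero_iff _).1 h7
  exact ⟨m', hm'.symm⟩

/-- **(KILL)** for a torus: the matrix is divisible by `Q`. -/
theorem kill_torus {κ : Type u} [CommRing κ] [Nontrivial κ] (hQ : Q ≠ 0)
    (ν : Fam (Spec (CommRingCat.of κ)) Q)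
    (q : Spec (CommRingCat.of κ) ⟶ Spec (CommRingCat.of R)) (hq : ν.j ≫ q ≫ sp s = q)
    (htw : ∀ (T : Over (Spec (CommRingCat.of R))) (x y : T ⟶ N),
      tw hF (x * y) = tw hF x * tw hF y) {r : ℕ}
    (i : Red.DS (Spec (CommRingCat.of κ)) (Fin r → ℤ) ⟶ Red.bc q N) [IsMonHom i] [Mono i]
    (w : (Fin r → ℤ) →+ (Fin r → ℤ)) (hw : i ≫ psiQ ν hF q hq = Red.DSmap _ w ≫ i) :
    ∃ w' : (Fin r → ℤ) →+ (Fin r → ℤ), w = Q • w' := by
  choose f hf using kill hF ν q hq htw i w hw
  have hinj : ∀ a b : Fin r → ℤ, Q • a = Q • b → a = b := by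
    intro a b h
    have h1 : (Q : ℤ) • a = (Q : ℤ) • b := by simpa using h
    exact smul_right_injective _ (by exact_mod_cast hQ : (Q : ℤ) ≠ 0) h1
  refine ⟨{ toFun := f, map_zero' := ?_, map_add' := fun a b => ?_ }, ?_⟩
  · apply hinj
    rw [← hf, map_zero, smul_zero]
  · apply hinj
    rw [← hf, map_add, smul_add, ← hf, ← hf]
  · apply DFunLike.ext
    exact hf

end kill

end K539.Frob
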