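import Groth.Agent.FamCyc.K812.DetFFR
import Mathlib.LinearAlgebra.FreeModule.PID
import Mathlib.LinearAlgebra.Charpoly.Basic
import Mathlib.LinearAlgebra.FreeModule.StrongRankCondition
import Mathlib.RingTheory.Flat.Localization

/-!
# Characteristic polynomials along exact sequences up to finite index, and the monodromy filtration

Pure linear algebra over a principal ideal domain (`ℤ_[l]` in the applications).

* `charpoly_eq_of_finrank`: an injection of free modules of the same finite rank preserves characteristic polynomials;
* `charpoly_exact`: multiplicativity along `A → B → C`, exact on the left and in the middle, with torsion cokernel;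
* `charpoly_twist`: `T` with an operator `N` such that `σ N = Q N σ`, `ker N = F`, `im N ⊂ X ⊂ F` of finite index,
  `σ = Q a'` on `X`: then `charpoly σ = charpoly (σ | F) * charpoly a'`.
-/

set_option autoImplicit false

universe u v

open Polynomial

namespace K539.Lin

section Fin

variable {R : Type*} [CommRing R] [IsDomain R]
  {M N : Type*} [AddCommGroup M] [Module R M] [Module.Free R M] [Module.Finite R M]
  [AddCommGroup N] [Module R N] [Module.Free R N] [Module.Finite R N]

/-- An injective linear map between free modules of the same finite rank intertwines endomorphisms with equal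
characteristic polynomials. -/
theorem charpoly_eq_of_finrank (i : M →ₗ[R] N) (hi : Function.Injective i)
    (hr : Module.finrank R M = Module.finrank R N) (f : Module.End R M) (g : Module.End R N)
    (h : ∀ x, i (f x) = g (i x)) : f.charpoly = g.charpoly := by
  classical
  let K := FractionRing R
  apply Polynomial.map_injective _ (IsFractionRing.injective R K)
  rw [← LinearMap.charpoly_baseChange, ← LinearMap.charpoly_baseChange]
  let iK := i.baseChange K
  have hflat : Module.Flat R K := IsLocalization.flat K (nonZeroDivisors R)
  have hiK : Function.Injective iK := Module.Flat.lTensor_preserves_injective_linearMap (M := K) i hi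
  have hrK : Module.finrank K (TensorProduct R K M) = Module.finrank K (TensorProduct R K N) := by
    rw [Module.finrank_baseChange, Module.finrank_baseChange, hr]
  let e : (TensorProduct R K M) ≃ₗ[K] (TensorProduct R K N) := LinearEquiv.ofInjectiveOfFinrankEq iK hiK hrK
  have he : ∀ x, e x = iK x := fun x => rfl
  have h3 : e.conj (f.baseChange K) = g.baseChange K := by
    have h4 : iK ∘ₗ (f.baseChange K) = (g.baseChange K) ∘ₗ iK := by
      rw [← LinearMap.baseChange_comp, ← LinearMap.baseChange_comp]
      congr 1
      exact LinearMap.ext h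
    apply LinearMap.ext
    intro y
    obtain ⟨x, rfl⟩ := e.surjective y
    rw [LinearEquiv.conj_apply_apply, e.symm_apply_apply]
    exact LinearMap.congr_fun h4 x
  rw [← h3, LinearEquiv.charpoly_conj]

/-- A submodule of the same rank. -/
theorem finrank_eq_of_smul_mem (i : M →ₗ[R] N) (hi : Function.Injective i) (n : R) (hn : n ≠ 0)
    (hfin : ∀ y, ∃ x, i x = n • y) : Module.finrank R M = Module.finrank R N := by
  apply le_antisymm (LinearMap.finrank_le_finrank_of_injective hi)
  have hnN : Function.Injective (fun y : N => n • y) := smul_right_injective N hn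
  choose j0 hj0 using hfin
  let j : N →ₗ[R] M :=
    { toFun := j0
      map_add' := fun x y => hi (by rw [map_add, hj0, hj0, hj0, smul_add])
      map_smul' := fun a y => hi (by rw [map_smul, hj0, hj0, RingHom.id_apply, smul_comm]) }
  have hj : Function.Injective j := fun x y h => hnN (by
    have h1 : i (j0 x) = i (j0 y) := congrArg i h
    rwa [hj0, hj0] at h1)
  exact LinearMap.finrank_le_finrank_of_injective hj

end Fin

section Main

variable {R : Type*} [CommRing R] [IsDomain R] [IsPrincipalIdealRing R]

/-- **The characteristic polynomial is multiplicative in sequences which are exact up to a torsion cokernel.** -/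
theorem charpoly_exact {A B C : Type*} [AddCommGroup A] [Module R A] [Module.Free R A] [Module.Finite R A]
    [AddCommGroup B] [Module R B] [Module.Free R B] [Module.Finite R B]
    [AddCommGroup C] [Module R C] [Module.Free R C] [Module.Finite R C]
    (i : A →ₗ[R] B) (q : B →ₗ[R] C) (hi : Function.Injective i)
    (hiq : LinearMap.ker q = LinearMap.range i) (n : R) (hn : n ≠ 0) (hq : ∀ z, n • z ∈ LinearMap.range q)
    (a : Module.End R A) (b : Module.End R B) (c : Module.End R C)
    (hab : ∀ x, i (a x) = b (i x)) (hbc : ∀ x, q (b x) = c (q x)) : b.charpoly = a.charpoly * c.charpoly := by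
  let Q := LinearMap.range q
  have hmem : ∀ x : Q, c x ∈ Q := fun x => by
    obtain ⟨y, hy⟩ := LinearMap.mem_range.mp x.2
    exact LinearMap.mem_range.mpr ⟨b y, by rw [hbc, hy]⟩
  let c' : Module.End R Q := LinearMap.codRestrict Q (c ∘ₗ Q.subtype) hmem
  have h1 : c'.charpoly = c.charpoly := by
    refine charpoly_eq_of_finrank Q.subtype Subtype.val_injective ?_ c' c (fun x => rfl)
    refine finrank_eq_of_smul_mem Q.subtype Subtype.val_injective n hn fun y => ⟨⟨n • y, hq y⟩, rfl⟩
  have h2 : Function.Exact i q.rangeRestrict := fun x => by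
    constructor
    · intro h
      have h3 : x ∈ LinearMap.ker q := congrArg Subtype.val h
      rw [hiq] at h3
      exact h3
    · rintro ⟨y, rfl⟩
      have h3 : i y ∈ LinearMap.ker q := by rw [hiq]; exact ⟨y, rfl⟩
      exact Subtype.ext h3
  rw [← h1]
  exact K812.DetFFR.charpoly_exact i q.rangeRestrict hi q.surjective_rangeRestrict h2 a b c' hab
    (fun x => Subtype.ext (hbc x))

/-- Natural number version of `charpoly_exact`. -/
theorem charpoly_exact_nat [CharZero R] {A B C : Type*} [AddCommGroup A] [Module R A] [Module.Free R A]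
    [Module.Finite R A] [AddCommGroup B] [Module R B] [Module.Free R B] [Module.Finite R B]
    [AddCommGroup C] [Module R C] [Module.Free R C] [Module.Finite R C]
    (i : A →ₗ[R] B) (q : B →ₗ[R] C) (hi : Function.Injective i)
    (hiq : LinearMap.ker q = LinearMap.range i) (hq : ∃ m : ℕ, m ≠ 0 ∧ ∀ z, m • z ∈ LinearMap.range q)
    (a : Module.End R A) (b : Module.End R B) (c : Module.End R C)
    (hab : ∀ x, i (a x) = b (i x)) (hbc : ∀ x, q (b x) = c (q x)) : b.charpoly = a.charpoly * c.charpoly := by
  obtain ⟨m, hm, hmq⟩ := hq
  refine charpoly_exact i q hi hiq (m : R) (Nat.cast_ne_zero.mpr hm) (fun z => ?_) a b c hab hbc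
  rw [Nat.cast_smul_eq_nsmul]
  exact hmq z

/-- **Monodromy.**  `T` with an operator `N` such that `σ N = Q N σ`, `ker N = F`, `im N ⊂ X ⊂ F`, and
`σ = Q a'` on `X`; `rank T = rank F + rank X`. -/
theorem charpoly_twist [CharZero R] {F T X : Type*} [AddCommGroup F] [Module R F] [Module.Free R F] [Module.Finite R F]
    [AddCommGroup T] [Module R T] [Module.Free R T] [Module.Finite R T]
    [AddCommGroup X] [Module R X] [Module.Free R X] [Module.Finite R X]
    (f : F →ₗ[R] T) (hf : Function.Injective f) (i : X →ₗ[R] F) (hi : Function.Injective i)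
    (N σ : Module.End R T) (b : Module.End R F) (a' : Module.End R X) (Q : ℕ) (hQ : Q ≠ 0)
    (hker : LinearMap.ker N = LinearMap.range f) (hN : ∀ x, ∃ y, f (i y) = N x)
    (hfb : ∀ x, f (b x) = σ (f x)) (hib : ∀ x, b (i x) = i (Q • a' x))
    (hσN : ∀ x, σ (N x) = Q • N (σ x))
    (hr : Module.finrank R T = Module.finrank R F + Module.finrank R X) :
    σ.charpoly = b.charpoly * a'.charpoly := by
  classical
  have hQR : (Q : R) ≠ 0 := Nat.cast_ne_zero.mpr hQ
  let Y := LinearMap.range N
  have hfi : Function.Injective (f ∘ₗ i) := hf.comp hi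
  choose φ hφ using fun y : Y => (show ∃ x, f (i x) = (y : T) by
    obtain ⟨z, hz⟩ := LinearMap.mem_range.mp y.2
    obtain ⟨x, hx⟩ := hN z
    exact ⟨x, by rw [hx, hz]⟩)
  let g : Y →ₗ[R] X :=
    { toFun := φ
      map_add' := fun x y => hfi (by
        simp only [LinearMap.comp_apply, map_add]
        rw [hφ, hφ, hφ]
        rfl)
      map_smul' := fun a x => hfi (by
        simp only [LinearMap.comp_apply, map_smul, RingHom.id_apply]
        rw [hφ, hφ]
        rfl) }
  have hg : ∀ y : Y, f (i (g y)) = (y : T) := hφ
  have hgi : Function.Injective g := fun x y h => Subtype.ext (by rw [← hg, ← hg, h])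
  -- `σ` on the range of `N` through the quotient
  have hσi : ∀ y, σ (f (i y)) = Q • f (i (a' y)) := fun y => by
    rw [← hfb, hib, map_nsmul, map_nsmul]
  have hkey : ∀ x y, N x = f (i y) → N (σ x) = f (i (a' y)) := fun x y h => by
    have h1 := hσN x
    rw [h, hσi, ← Nat.cast_smul_eq_nsmul R, ← Nat.cast_smul_eq_nsmul R] at h1
    exact (smul_right_injective T hQR h1).symm
  have hmem : ∀ y : Y, f (i (a' (g y))) ∈ Y := fun y => by
    obtain ⟨x, hx⟩ := LinearMap.mem_range.mp y.2
    exact LinearMap.mem_range.mpr ⟨σ x, hkey x (g y) (by rw [hx, hg])⟩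
  let c : Module.End R Y := LinearMap.codRestrict Y (f ∘ₗ i ∘ₗ a' ∘ₗ g) hmem
  have hc : ∀ y, g (c y) = a' (g y) := fun y => hfi (by
    simp only [LinearMap.comp_apply]
    rw [hg]
    rfl)
  have h2 : Function.Exact f N.rangeRestrict := fun x => by
    constructor
    · intro h
      have h3 : x ∈ LinearMap.ker N := congrArg Subtype.val h
      rw [hker] at h3
      exact h3
    · rintro ⟨y, rfl⟩
      have h3 : f y ∈ LinearMap.ker N := by rw [hker]; exact ⟨y, rfl⟩
      exact Subtype.ext h3
  have h3 := K812.DetFFR.charpoly_exact f N.rangeRestrict hf N.surjective_rangeRestrict h2 b σ c hfb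
    (fun x => Subtype.ext (hkey x _ (by rw [hg]; rfl)))
  have hrY : Module.finrank R Y = Module.finrank R X := by
    have h4 := Submodule.finrank_quotient_add_finrank (LinearMap.ker N)
    rw [(LinearMap.quotKerEquivRange N).finrank_eq, hker, LinearMap.finrank_range_of_inj hf, hr] at h4
    change Module.finrank R Y + _ = _ at h4
    omega
  rw [h3, charpoly_eq_of_finrank g hgi hrY c a' hc]

end Main

end K539.Lin
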